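import Mathlib

open Polynomial

namespace Groth.Agent.H5.MinAlg
universe u

section
variable {κ A : Type u} [Field κ] [CommRing A] [Algebra κ A]

theorem nontrivial_of (h : IsSimpleOrder (Subalgebra κ A)) : Nontrivial A := by
  by_contra hn
  rw [not_nontrivial_iff_subsingleton] at hn
  have : (⊥ : Subalgebra κ A) = ⊤ := by
    ext x
    simp only [Algebra.mem_top, iff_true]
    rw [Subsingleton.elim x 0]; exact zero_mem _
  exact bot_ne_top this

theorem exists_notMem_bot (h : IsSimpleOrder (Subalgebra κ A)) :
    ∃ x : A, x ∉ (⊥ : Subalgebra κ A) := by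
  by_contra hcon
  push Not at hcon
  have : (⊥ : Subalgebra κ A) = ⊤ := by
    ext x
    simp only [Algebra.mem_top, iff_true]
    exact hcon x
  exact bot_ne_top this

theorem adjoin_eq_top (h : IsSimpleOrder (Subalgebra κ A)) {y : A}
    (hy : y ∉ (⊥ : Subalgebra κ A)) : Algebra.adjoin κ {y} = ⊤ := by
  rcases h.eq_bot_or_eq_top (Algebra.adjoin κ {y}) with h1 | h1
  · exact absurd (h1 ▸ Algebra.self_mem_adjoin_singleton κ y) hy
  · exact h1

theorem exists_aeval {x : A} (hx : Algebra.adjoin κ {x} = ⊤) (y : A) :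
    ∃ q : κ[X], aeval x q = y := by
  have : y ∈ Algebra.adjoin κ {x} := by rw [hx]; trivial
  rw [Algebra.adjoin_singleton_eq_range_aeval] at this
  exact this

theorem mem_bot_iff (y : A) : y ∈ (⊥ : Subalgebra κ A) ↔ ∃ c : κ, algebraMap κ A c = y :=
  Algebra.mem_bot

theorem isIntegral_of (h : IsSimpleOrder (Subalgebra κ A)) (x : A) : IsIntegral κ x := by
  rcases h.eq_bot_or_eq_top (Algebra.adjoin κ {x ^ 2}) with h1 | h1
  · have : x ^ 2 ∈ (⊥ : Subalgebra κ A) := h1 ▸ Algebra.self_mem_adjoin_singleton κ (x ^ 2)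
    obtain ⟨c, hc⟩ := (mem_bot_iff _).mp this
    refine ⟨X ^ 2 - C c, monic_X_pow_sub_C c two_ne_zero, ?_⟩
    rw [← aeval_def]
    simp [hc]
  · obtain ⟨q, hq⟩ := exists_aeval h1 x
    rw [← expand_aeval] at hq
    by_contra hni
    have htr : Transcendental κ x := by
      intro halg
      exact hni halg.isIntegral
    rw [transcendental_iff_injective] at htr
    have h2 : expand κ 2 q = X := htr (by rw [hq, aeval_X])
    have h3 := congrArg (fun r => coeff r 1) h2
    simp only [coeff_expand (by norm_num : 0 < 2), coeff_X_one] at h3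
    norm_num at h3

theorem finite_of (h : IsSimpleOrder (Subalgebra κ A)) : FiniteDimensional κ A := by
  obtain ⟨x, hx⟩ := exists_notMem_bot h
  have h1 := (isIntegral_of h x).fg_adjoin_singleton
  rw [adjoin_eq_top h hx, Algebra.top_toSubmodule] at h1
  exact Module.finite_def.mpr h1

theorem algebraMap_injective' (h : IsSimpleOrder (Subalgebra κ A)) :
    Function.Injective (algebraMap κ A) := by
  haveI := nontrivial_of h
  exact (algebraMap κ A).injective

/-- the trichotomy -/
theorem trichotomy (h : IsSimpleOrder (Subalgebra κ A)) :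
    IsField A ∨ (∃ y : A, y ∉ (⊥ : Subalgebra κ A) ∧ y * y = 0) ∨
      (∃ e : A, e ∉ (⊥ : Subalgebra κ A) ∧ e * e = e) := by
  classical
  haveI := nontrivial_of h
  obtain ⟨x, hx⟩ := exists_notMem_bot h
  have hint := isIntegral_of h x
  have htop := adjoin_eq_top h hx
  set m := minpoly κ x with hm
  have hm0 : m ≠ 0 := minpoly.ne_zero hint
  have hmu : ¬ IsUnit m := minpoly.not_isUnit κ x
  have hdvd : ∀ q : κ[X], aeval x q = 0 ↔ m ∣ q := fun q => (minpoly.dvd_iff).symm
  have hinj := algebraMap_injective' h
  by_cases hirr : Irreducible m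
  · left
    refine ⟨exists_pair_ne A, mul_comm, ?_⟩
    intro a ha
    obtain ⟨q, rfl⟩ := exists_aeval htop a
    have hnd : ¬ m ∣ q := fun hd => ha ((hdvd q).mpr hd)
    obtain ⟨u, v, huv⟩ := (hirr.isCoprime_or_dvd q).resolve_right hnd
    refine ⟨aeval x v, ?_⟩
    have := congrArg (aeval x) huv
    rw [map_add, map_mul, map_mul, map_one, (hdvd m).mpr dvd_rfl, mul_zero, zero_add] at this
    rw [mul_comm]; exact this
  · right
    rw [irreducible_iff] at hirr
    push Not at hirr
    obtain ⟨a, b, hab, hau, hbu⟩ := hirr hmu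
    have ha0 : a ≠ 0 := fun h0 => hm0 (by rw [hab, h0, zero_mul])
    have hb0 : b ≠ 0 := fun h0 => hm0 (by rw [hab, h0, mul_zero])
    by_cases hc : IsCoprime a b
    · right
      obtain ⟨u, v, huv⟩ := hc
      have h1 : aeval x (u * a) + aeval x (v * b) = 1 := by
        rw [← map_add, huv, map_one]
      have h2 : aeval x (u * a) * aeval x (v * b) = 0 := by
        rw [← map_mul, hdvd]
        exact ⟨u * v, by rw [hab]; ring⟩
      refine ⟨aeval x (u * a), ?_, ?_⟩
      · intro hmem
        obtain ⟨c, hc⟩ := (mem_bot_iff _).mp hmem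
        have hcc : c * c = c := by
          apply hinj
          rw [map_mul, hc]
          have : aeval x (u * a) * (aeval x (u * a) + aeval x (v * b)) = aeval x (u * a) := by
            rw [h1, mul_one]
          rw [mul_add, h2, add_zero] at this
          exact this
        have hc01 : c = 0 ∨ c = 1 := by
          have : c * (c - 1) = 0 := by rw [mul_sub, hcc, mul_one, sub_self]
          rcases mul_eq_zero.mp this with h0 | h0
          · exact Or.inl h0
          · exact Or.inr (sub_eq_zero.mp h0)
        rcases hc01 with rfl | rfl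
        · rw [map_zero] at hc
          have : m ∣ u * a := (hdvd _).mp hc.symm
          rw [hab, mul_comm u a] at this
          have hbu' : b ∣ u := (mul_dvd_mul_iff_left ha0).mp this
          have : b ∣ u * a + v * b := dvd_add (Dvd.dvd.mul_right hbu' a) (dvd_mul_left b v)
          rw [huv] at this
          exact hbu (isUnit_of_dvd_one this)
        · rw [map_one] at hc
          have h3 : aeval x (v * b) = 0 := by
            rw [← hc] at h1
            exact add_left_cancel (a := (1 : A)) (by rw [h1, add_zero])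
          have : m ∣ v * b := (hdvd _).mp h3
          rw [hab] at this
          have hav : a ∣ v := (mul_dvd_mul_iff_right hb0).mp this
          have : a ∣ u * a + v * b := dvd_add (dvd_mul_left a u) (Dvd.dvd.mul_right hav b)
          rw [huv] at this
          exact hau (isUnit_of_dvd_one this)
      · have : aeval x (u * a) * (aeval x (u * a) + aeval x (v * b)) = aeval x (u * a) := by
          rw [h1, mul_one]
        rw [mul_add, h2, add_zero] at this
        exact this
    · left
      set d := EuclideanDomain.gcd a b with hd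
      have hdu : ¬ IsUnit d := fun hu => hc (EuclideanDomain.gcd_isUnit_iff.mp hu)
      obtain ⟨a', ha'⟩ := EuclideanDomain.gcd_dvd_left a b
      obtain ⟨b', hb'⟩ := EuclideanDomain.gcd_dvd_right a b
      rw [← hd] at ha' hb'
      have hmd : m = d * a' * b' * d := by
        rw [hab]
        calc a * b = (d * a') * (d * b') := by rw [← ha', ← hb']
          _ = d * a' * b' * d := by ring
      have hne : d * a' * b' ≠ 0 := fun h0 => hm0 (by rw [hmd, h0, zero_mul])
      refine ⟨aeval x (d * a' * b'), ?_, ?_⟩
      · intro hmem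
        obtain ⟨c, hc⟩ := (mem_bot_iff _).mp hmem
        have hsq : aeval x (d * a' * b') * aeval x (d * a' * b') = 0 := by
          rw [← map_mul, hdvd]
          exact ⟨a' * b', by rw [hmd]; ring⟩
        have hc0 : c = 0 := by
          have : c * c = 0 := by
            apply hinj
            rw [map_mul, hc, hsq, map_zero]
          exact mul_self_eq_zero.mp this
        rw [hc0, map_zero] at hc
        have : m ∣ d * a' * b' := (hdvd _).mp hc.symm
        rw [hmd] at this
        have : (d * a' * b') * d ∣ (d * a' * b') * 1 := by rwa [mul_one]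
        exact hdu (isUnit_of_dvd_one ((mul_dvd_mul_iff_left hne).mp this))
      · rw [← map_mul, hdvd]
        exact ⟨a' * b', by rw [hmd]; ring⟩


theorem range_eq_top_of_mem {B : Type u} [CommRing B] [Algebra κ B]
    (h : IsSimpleOrder (Subalgebra κ A)) (φ : B →ₐ[κ] A) (b : B)
    (hb : φ b ∉ (⊥ : Subalgebra κ A)) : Function.Surjective φ := by
  rw [← AlgHom.range_eq_top]
  rcases h.eq_bot_or_eq_top φ.range with h1 | h1
  · exact absurd (h1 ▸ (⟨b, rfl⟩ : φ b ∈ φ.range)) hb
  · exact h1

theorem dual_iso (h : IsSimpleOrder (Subalgebra κ A)) (y : A)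
    (hy : y ∉ (⊥ : Subalgebra κ A)) (hyy : y * y = 0) : Nonempty (A ≃ₐ[κ] DualNumber κ) := by
  haveI := nontrivial_of h
  have hinj := algebraMap_injective' h
  let φ : DualNumber κ →ₐ[κ] A :=
    DualNumber.lift ⟨(Algebra.ofId κ A, y), hyy, fun a => Commute.all _ _⟩
  have hφε : φ DualNumber.eps = y := DualNumber.lift_apply_eps _
  have hsurj : Function.Surjective φ := range_eq_top_of_mem h φ DualNumber.eps (by rw [hφε]; exact hy)
  have hinjφ : Function.Injective φ := by
    rw [injective_iff_map_eq_zero]
    intro z hz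
    have hz' : algebraMap κ A z.fst + algebraMap κ A z.snd * y = 0 := by
      have := DualNumber.lift_apply_apply
        (⟨(Algebra.ofId κ A, y), hyy, fun a => Commute.all _ _⟩ :
          {fe : (κ →ₐ[κ] A) × A // fe.2 * fe.2 = 0 ∧ ∀ a, Commute fe.2 (fe.1 a)}) z
      exact this.symm.trans hz
    have hb : z.snd = 0 := by
      by_contra hb
      apply hy
      rw [mem_bot_iff]
      refine ⟨-(z.fst / z.snd), ?_⟩
      have h1 : algebraMap κ A z.snd * y = - algebraMap κ A z.fst := by
        rw [eq_neg_iff_add_eq_zero, add_comm]; exact hz'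
      have h2 : algebraMap κ A (z.snd)⁻¹ * (algebraMap κ A z.snd * y) = y := by
        rw [← mul_assoc, ← map_mul, inv_mul_cancel₀ hb, map_one, one_mul]
      rw [← h2, h1, map_neg, div_eq_mul_inv, map_mul]
      ring
    have ha : z.fst = 0 := by
      rw [hb, map_zero, zero_mul, add_zero] at hz'
      exact hinj (by rw [hz', map_zero])
    exact TrivSqZeroExt.ext ha hb
  exact ⟨(AlgEquiv.ofBijective φ ⟨hinjφ, hsurj⟩).symm⟩

theorem prod_iso (h : IsSimpleOrder (Subalgebra κ A)) (e : A)
    (he : e ∉ (⊥ : Subalgebra κ A)) (hee : e * e = e) : Nonempty (A ≃ₐ[κ] (κ × κ)) := by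
  haveI := nontrivial_of h
  let f : κ × κ →ₗ[κ] A :=
    (LinearMap.fst κ κ κ).smulRight e + (LinearMap.snd κ κ κ).smulRight (1 - e)
  have hf : ∀ z : κ × κ, f z = algebraMap κ A z.1 * e + algebraMap κ A z.2 * (1 - e) := by
    intro z
    simp [f, Algebra.smul_def]
  let ψ : κ × κ →ₐ[κ] A := AlgHom.ofLinearMap f
    (by rw [hf]; simp)
    (by
      intro z w
      rw [hf, hf, hf]
      simp only [Prod.fst_mul, Prod.snd_mul, map_mul]
      linear_combination (-(algebraMap κ A z.1 * algebraMap κ A w.1) +
        algebraMap κ A z.1 * algebraMap κ A w.2 + algebraMap κ A z.2 * algebraMap κ A w.1 -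
        algebraMap κ A z.2 * algebraMap κ A w.2) * hee)
  have hψ : ∀ z, ψ z = algebraMap κ A z.1 * e + algebraMap κ A z.2 * (1 - e) := hf
  have hsurj : Function.Surjective ψ := range_eq_top_of_mem h ψ (1, 0) (by
    rw [hψ]; simpa using he)
  have hinjψ : Function.Injective ψ := by
    rw [injective_iff_map_eq_zero]
    intro z hz
    rw [hψ] at hz
    have h1 : algebraMap κ A z.1 * e = 0 := by
      have := congrArg (fun t => t * e) hz
      simp only [zero_mul] at this
      rw [← this]
      linear_combination (-(algebraMap κ A z.1) + algebraMap κ A z.2) * hee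
    have h2 : algebraMap κ A z.2 * (1 - e) = 0 := by
      rw [h1, zero_add] at hz; exact hz
    have ha : z.1 = 0 := by
      by_contra ha
      apply he
      have : e = 0 := by
        have := congrArg (fun t => algebraMap κ A (z.1)⁻¹ * t) h1
        simp only [mul_zero] at this
        rwa [← mul_assoc, ← map_mul, inv_mul_cancel₀ ha, map_one, one_mul] at this
      rw [this]; exact zero_mem _
    have hb : z.2 = 0 := by
      by_contra hb
      apply he
      have : 1 - e = 0 := by
        have := congrArg (fun t => algebraMap κ A (z.2)⁻¹ * t) h2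
        simp only [mul_zero] at this
        rwa [← mul_assoc, ← map_mul, inv_mul_cancel₀ hb, map_one, one_mul] at this
      rw [← sub_eq_zero.mp this]; exact one_mem _
    exact Prod.ext ha hb
  exact ⟨(AlgEquiv.ofBijective ψ ⟨hinjψ, hsurj⟩).symm⟩

end

section FieldCase
variable {κ A : Type u} [Field κ] [Field A] [Algebra κ A]

theorem field_case [FiniteDimensional κ A] (h : IsSimpleOrder (Subalgebra κ A)) :
    Algebra.IsSeparable κ A ∨ ∃ (p : ℕ) (a : κ) (y : A), p.Prime ∧ CharP κ p ∧
      (∀ b : κ, b ^ p ≠ a) ∧ y ∉ (⊥ : Subalgebra κ A) ∧ y ^ p = algebraMap κ A a := by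
  rcases h.eq_bot_or_eq_top (separableClosure κ A).toSubalgebra with h1 | h1
  · have h2 : separableClosure κ A = ⊥ :=
      IntermediateField.toSubalgebra_injective (by rw [h1, IntermediateField.bot_toSubalgebra])
    haveI hpi : IsPurelyInseparable κ A := separableClosure.eq_bot_iff.mp h2
    obtain ⟨p, hp⟩ := ExpChar.exists κ
    rcases hp with _ | ⟨hprime⟩
    · left
      infer_instance
    · right
      haveI : ExpChar κ p := ExpChar.prime hprime
      obtain ⟨x, hx⟩ := exists_notMem_bot h
      have hpow := IsPurelyInseparable.pow_mem κ p x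
      classical
      set n := Nat.find hpow with hn
      have hn0 : n ≠ 0 := by
        intro h0
        have := Nat.find_spec hpow
        rw [← hn, h0, pow_zero, pow_one] at this
        exact hx (Algebra.mem_bot.mpr this)
      obtain ⟨a, ha⟩ := Nat.find_spec hpow
      rw [← hn] at ha
      have hy : x ^ p ^ (n - 1) ∉ (⊥ : Subalgebra κ A) := by
        intro hmem
        exact Nat.find_min hpow (by omega : n - 1 < n) (Algebra.mem_bot.mp hmem)
      have hyp : (x ^ p ^ (n - 1)) ^ p = algebraMap κ A a := by
        rw [← pow_mul, ← pow_succ, Nat.sub_add_cancel (Nat.pos_of_ne_zero hn0)]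
        exact ha.symm
      haveI : CharP A p := charP_of_injective_algebraMap (algebraMap κ A).injective p
      haveI : Fact p.Prime := ⟨hprime⟩
      refine ⟨p, a, x ^ p ^ (n - 1), hprime, inferInstance, ?_, hy, hyp⟩
      intro b hb
      apply hy
      have : (x ^ p ^ (n - 1) - algebraMap κ A b) ^ p = 0 := by
        rw [sub_pow_char, hyp, ← map_pow, hb, sub_self]
      have := pow_eq_zero_iff (hprime.ne_zero) |>.mp this
      rw [sub_eq_zero] at this
      rw [this]
      exact Subalgebra.algebraMap_mem _ _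
  · left
    have h2 : separableClosure κ A = ⊤ :=
      IntermediateField.toSubalgebra_injective (by rw [h1, IntermediateField.top_toSubalgebra])
    exact (separableClosure.eq_top_iff κ A).mp h2

end FieldCase


section Final
variable {κ A : Type u} [Field κ] [CommRing A] [Algebra κ A]

theorem adjoinRoot_iso (h : IsSimpleOrder (Subalgebra κ A)) (p : ℕ) (a : κ) (y : A)
    (hp : p.Prime) (hirr : ∀ b : κ, b ^ p ≠ a) (hy : y ∉ (⊥ : Subalgebra κ A))
    (hyp : y ^ p = algebraMap κ A a) :
    Nonempty (A ≃ₐ[κ] AdjoinRoot (X ^ p - C a : κ[X])) := by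
  haveI := nontrivial_of h
  haveI : Fact (Irreducible (X ^ p - C a : κ[X])) :=
    ⟨(X_pow_sub_C_irreducible_iff_of_prime hp).mpr hirr⟩
  let φ : AdjoinRoot (X ^ p - C a : κ[X]) →ₐ[κ] A :=
    AdjoinRoot.liftAlgHom _ (Algebra.ofId κ A) y (by
      simp [eval₂_sub, eval₂_pow, eval₂_X, eval₂_C, hyp, Algebra.ofId_apply])
  have hφ : φ (AdjoinRoot.root _) = y := AdjoinRoot.liftAlgHom_root _ _ _ _
  have hsurj := range_eq_top_of_mem h φ (AdjoinRoot.root _) (by rw [hφ]; exact hy)
  have hinj : Function.Injective φ := (φ : AdjoinRoot (X ^ p - C a : κ[X]) →+* A).injective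
  exact ⟨(AlgEquiv.ofBijective φ ⟨hinj, hsurj⟩).symm⟩

theorem main (κ A : Type u) [Field κ] [CommRing A] [Algebra κ A]
    (h : IsSimpleOrder (Subalgebra κ A)) :
    FiniteDimensional κ A ∧
    (Nonempty (A ≃ₐ[κ] DualNumber κ) ∨ Nonempty (A ≃ₐ[κ] (κ × κ)) ∨
      (IsField A ∧ (Algebra.IsSeparable κ A ∨
        ∃ (p : ℕ) (a : κ), p.Prime ∧ CharP κ p ∧ (∀ b : κ, b ^ p ≠ a) ∧
          Nonempty (A ≃ₐ[κ] AdjoinRoot (X ^ p - C a))))) := by
  have hfin := finite_of h
  refine ⟨hfin, ?_⟩
  rcases trichotomy h with hF | ⟨y, hy, hyy⟩ | ⟨e, he, hee⟩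
  · right; right
    refine ⟨hF, ?_⟩
    letI : Field A := hF.toField
    rcases field_case (κ := κ) (A := A) h with hs | ⟨p, a, y, hp, hchar, hirr, hy, hyp⟩
    · left; exact hs
    · right; exact ⟨p, a, hp, hchar, hirr, adjoinRoot_iso h p a y hp hirr hy hyp⟩
  · left; exact dual_iso h y hy hyy
  · right; left; exact prod_iso h e he hee

end Final

end Groth.Agent.H5.MinAlg
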